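import Groth.Agent.SSMod.K971.Rigid
import Groth.Agent.Sga7.H760.Nhd
import Groth.Agent.An.H867.QfDim
import Groth.Agent.Flat2G.ProperDim
import Groth.Agent.S0403
import Groth.Agent.PerfB.ApproxMdl

/-!
# The locus where a proper family has dimension `≤ 1` and a closed subset has finite fibres
-/

set_option autoImplicit false
universe u
open CategoryTheory CategoryTheory.Limits AlgebraicGeometry Opposite TopologicalSpace

namespace K481.GGBase

open Groth.Agent

/-- Finiteness of a fibre in terms of dimension. -/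
theorem finite_iff_dim {W S : Scheme.{u}} (q : W ⟶ S) [LocallyOfFiniteType q] [QuasiCompact q] (y : S) :
    (q ⁻¹' {y}).Finite ↔ topologicalKrullDim (q.fiber y) ≤ 0 := by
  have h0 : LocallyOfFiniteType (q.fiberToSpecResidueField y) :=
    inferInstanceAs (LocallyOfFiniteType (pullback.snd _ _))
  have hN : IsNoetherian (q.fiber y) := by
    have hl : IsLocallyNoetherian (q.fiber y) := LocallyOfFiniteType.isLocallyNoetherian (q.fiberToSpecResidueField y)
    exact { toIsLocallyNoetherian := hl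
            toCompactSpace := QuasiCompact.compactSpace_of_compactSpace (q.fiberToSpecResidueField y) }
  constructor
  · intro h
    have hfin : Finite (q.fiber y) := by
      have : Finite (q ⁻¹' {y} : Set W) := h
      exact Finite.of_equiv _ (q.fiberHomeo y).symm.toEquiv
    have h1 : LocallyQuasiFinite (q.fiberToSpecResidueField y) :=
      LocallyQuasiFinite.of_finite_preimage_singleton _ fun z => Set.toFinite _
    refine (An.H867.QfDim.dim_le (q.fiberToSpecResidueField y)).trans ?_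
    exact topologicalKrullDim_zero_of_discreteTopology _
  · intro h
    have := Sga7.H760.Nhd.finite_of_krullDim_le_zero h
    have h2 : Finite (q ⁻¹' {y} : Set W) := Finite.of_equiv _ (q.fiberHomeo y).toEquiv
    exact h2

theorem finite_comp_iff {W X S : Scheme.{u}} (i : W ⟶ X) [IsClosedImmersion i] (f : X ⟶ S) {Z : Set X}
    (hi : Set.range i = Z) (y : S) : ((i ≫ f) ⁻¹' {y}).Finite ↔ (f ⁻¹' {y} ∩ Z).Finite := by
  have h1 : i '' ((i ≫ f) ⁻¹' {y}) = f ⁻¹' {y} ∩ Z := by
    ext x
    constructor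
    · rintro ⟨w, hw, rfl⟩
      exact ⟨hw, hi ▸ ⟨w, rfl⟩⟩
    · rintro ⟨hx, hxZ⟩
      rw [← hi] at hxZ
      obtain ⟨w, rfl⟩ := hxZ
      exact ⟨w, hx, rfl⟩
  rw [← h1, Set.finite_image_iff i.isClosedEmbedding.injective.injOn]

/-- Finiteness of the fibres of a closed subset is invariant under base change. -/
theorem finite_baseChange {X S X' S' : Scheme.{u}} {p : X' ⟶ X} {f' : X' ⟶ S'} {f : X ⟶ S} {g : S' ⟶ S}
    (h : IsPullback p f' f g) [IsProper f] {Z : Set X} (hZ : IsClosed Z) (y : S') :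
    (f' ⁻¹' {y} ∩ p ⁻¹' Z).Finite ↔ (f ⁻¹' {g y} ∩ Z).Finite := by
  have hf' : IsProper f' := MorphismProperty.of_isPullback h inferInstance
  obtain ⟨W, i, hi, hr⟩ : ∃ (W : Scheme.{u}) (i : W ⟶ X), IsClosedImmersion i ∧ Set.range i = Z := by
    refine ⟨(Scheme.IdealSheafData.vanishingIdeal ⟨Z, hZ⟩).subscheme,
      (Scheme.IdealSheafData.vanishingIdeal ⟨Z, hZ⟩).subschemeι, inferInstance, ?_⟩
    rw [Scheme.IdealSheafData.range_subschemeι]
    simp
  have hr' : Set.range (pullback.snd i p) = p ⁻¹' Z := by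
    rw [← hr, ← Scheme.Pullback.range_snd]
  rw [← finite_comp_iff (pullback.snd i p) f' hr' y, ← finite_comp_iff i f hr (g y), finite_iff_dim, finite_iff_dim]
  have h2 : IsPullback (pullback.fst i p) (pullback.snd i p ≫ f') (i ≫ f) g :=
    (IsPullback.of_hasPullback i p).paste_vert h
  rw [Flat2G.ProperDim.topologicalKrullDim_fiber_baseChange _ _ _ _ h2]

/-- The good locus. -/
def good {X S : Scheme.{u}} (f : X ⟶ S) (Z : Set X) : Set S :=
  {y | topologicalKrullDim (f.fiber y) ≤ 1 ∧ (f ⁻¹' {y} ∩ Z).Finite}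

theorem isOpen_good {X S : Scheme.{u}} (f : X ⟶ S) [IsProper f] {Z : Set X} (hZ : IsClosed Z) : IsOpen (good f Z) := by
  have h1 : IsOpen {s : S | topologicalKrullDim (f.fiber s) ≤ 1} := S0403.result f 1
  refine h1.inter ?_
  obtain ⟨W, i, hi, hr⟩ : ∃ (W : Scheme.{u}) (i : W ⟶ X), IsClosedImmersion i ∧ Set.range i = Z := by
    refine ⟨(Scheme.IdealSheafData.vanishingIdeal ⟨Z, hZ⟩).subscheme,
      (Scheme.IdealSheafData.vanishingIdeal ⟨Z, hZ⟩).subschemeι, inferInstance, ?_⟩
    rw [Scheme.IdealSheafData.range_subschemeι]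
    simp
  have h2 := K971.Rigid.isOpen_finite (i ≫ f)
  convert h2 using 1
  ext y
  exact (finite_comp_iff i f hr y).symm

theorem mem_good_baseChange {X S X' S' : Scheme.{u}} {p : X' ⟶ X} {f' : X' ⟶ S'} {f : X ⟶ S} {g : S' ⟶ S}
    (h : IsPullback p f' f g) [IsProper f] {Z : Set X} (hZ : IsClosed Z) (y : S') :
    y ∈ good f' (p ⁻¹' Z) ↔ g y ∈ good f Z := by
  change _ ∧ _ ↔ _ ∧ _
  rw [finite_baseChange h hZ, Flat2G.ProperDim.topologicalKrullDim_fiber_baseChange f f' p g h]

end K481.GGBase
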