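import Groth.Agent.SSMod.K481.GGNoeth
import Groth.Agent.SSMod.K481.GGBase
import Groth.Agent.SSMod.K755.Plan
import Groth.Agent.PerfB.ApproxHom
import Groth.Agent.PerfB.ApproxProp
import Groth.Agent.Ega1.AmpFam
import Groth.Agent.Models2.FibreFreeSch
import Groth.Agent.Ega2.SecCalc
import Groth.Agent.VarietyB.GGStalk
import Groth.Agent.Ega3B.PullTensor
import Groth.Agent.Ega2.GlobGenCrit

/-!
# Global generation from a section with fibrewise finite zero locus (arbitrary base)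
-/

set_option autoImplicit false
universe u
open CategoryTheory CategoryTheory.Limits AlgebraicGeometry Opposite TopologicalSpace

namespace K481.GG

open Groth.Agent Groth.Agent.Ega2 Groth.Agent.Fdesc.LocGen Groth.Agent.PerfB.ApproxRing Groth.Agent.PerfB.ApproxMdl
open Groth.Agent.PerfB.ApproxHom Groth.Agent.PerfB.ApproxProp Groth.Agent.PerfB.PushPull Groth.Agent.Flat2F.BCSec

section Limit

variable {A : Type u} [CommRing A]

/-- An open containing the image of `Spec A` contains the image of some later stage. -/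
theorem exists_range_subset (B : Idx A) {V : Set (Spec (CommRingCat.of B.1))} (hV : IsOpen V)
    (h : ∀ y, sa B y ∈ V) : ∃ (C : Idx A) (hC : B ≤ C), ∀ y, si hC y ∈ V := by
  obtain ⟨I, hI⟩ : ∃ I : Ideal B.1, (PrimeSpectrum.zeroLocus (I : Set B.1)) = Vᶜ := by
    obtain ⟨I, hI⟩ := (PrimeSpectrum.isClosed_iff_zeroLocus_ideal (R := B.1) (Vᶜ : Set (PrimeSpectrum B.1))).1
      hV.isClosed_compl
    exact ⟨I, hI.symm⟩
  have h1 : Ideal.map (algebraMap B.1 A) I = ⊤ := by
    by_contra hne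
    obtain ⟨m, hm, hle⟩ := Ideal.exists_le_maximal _ hne
    have h2 := h (⟨m, hm.isPrime⟩ : PrimeSpectrum A)
    have h3 : sa B (⟨m, hm.isPrime⟩ : PrimeSpectrum A) ∈ (Vᶜ : Set _) := by
      rw [← hI]
      intro b hb
      exact hle (Ideal.mem_map_of_mem _ hb)
    exact h3 h2
  have h2 : (1 : A) ∈ Ideal.span ((algebraMap B.1 A) '' (I : Set B.1)) := by
    rw [← Ideal.map, h1]; trivial
  obtain ⟨n, a, b, hab⟩ := (Submodule.mem_span_set' ).1 h2
  obtain ⟨C, hC, hs⟩ := exists_idx_of_finite (Set.finite_range a) B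
  refine ⟨C, hC, fun y => ?_⟩
  by_contra hy
  have h3 : si hC y ∈ PrimeSpectrum.zeroLocus (I : Set B.1) := by rw [hI]; exact hy
  have h4 : Ideal.map (incl hC) I = ⊤ := by
    rw [Ideal.eq_top_iff_one]
    choose x hx hx' using fun i => (b i).2
    have h5 : (1 : C.1) = ∑ i, (⟨a i, hs ⟨i, rfl⟩⟩ : C.1) * incl hC (x i) := by
      apply Subtype.ext
      simp only [AddSubmonoidClass.coe_finsetSum, MulMemClass.coe_mul, coe_incl, OneMemClass.coe_one]
      rw [← hab]
      refine Finset.sum_congr rfl fun i _ => ?_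
      rw [← hx' i]
      rfl
    rw [h5]
    exact Ideal.sum_mem _ fun i _ => Ideal.mul_mem_left _ _ (Ideal.mem_map_of_mem _ (hx i))
  have h5 : Ideal.map (incl hC) I ≤ (show PrimeSpectrum C.1 from y).asIdeal := by
    rw [Ideal.map_le_iff_le_comap]
    exact h3
  exact (show PrimeSpectrum C.1 from y).2.ne_top (top_le_iff.1 (h4 ▸ h5))

end Limit

section Sections

variable {X Y W Z : Scheme.{u}}

theorem pullHom_comp (g : X ⟶ Y) (f : Y ⟶ Z) {L : Z.Modules} (s : Coh.structureModule Z ⟶ L) :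
    pullHom g (pullHom f s) ≫ (Scheme.Modules.pullbackComp g f).hom.app L = pullHom (g ≫ f) s := by
  apply hom_ext_sec
  rw [sec_comp]
  have h1 : sec (pullHom g (pullHom f s)) ⊤ = pullSec g (pullSec f (sec s ⊤)) := by
    rw [← sec_pullHom f s ⊤]
    exact sec_pullHom g (pullHom f s) ⊤
  rw [h1]
  refine (pullSec_comp' g f (sec s ⊤)).trans ?_
  exact (sec_pullHom (g ≫ f) s ⊤).symm

theorem pullHom_naturality (g : X ⟶ Y) {M N : Y.Modules} (s : Coh.structureModule Y ⟶ M) (φ : M ⟶ N) :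
    pullHom g (s ≫ φ) = pullHom g s ≫ (Scheme.Modules.pullback g).map φ := by
  apply hom_ext_sec
  rw [sec_comp]
  refine (sec_pullHom g (s ≫ φ) ⊤).trans ?_
  rw [sec_comp]
  refine Eq.trans ?_ (congrArg _ (sec_pullHom g s ⊤).symm)
  exact (pullback_map_pullSec g φ (sec s ⊤)).symm

/-- The canonical isomorphism `O ≅ a^* O`. -/
noncomputable def kap (a : X ⟶ Y) : Coh.structureModule X ⟶ (Scheme.Modules.pullback a).obj (Coh.structureModule Y) :=
  pullHom a (𝟙 _)

instance (a : X ⟶ Y) : IsIso (kap a) := by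
  rw [isIso_iff_isGen]
  have h1 : IsGen (sec (𝟙 (Coh.structureModule Y)) ⊤) := by
    rw [← isIso_iff_isGen]; infer_instance
  have h2 := h1.pullSec a
  have h3 := sec_pullHom a (𝟙 (Coh.structureModule Y)) ⊤
  rw [← h3] at h2
  exact h2

theorem kap_cmp {k : W ⟶ X} {a : X ⟶ Y} {a' : W ⟶ Y} (h : k ≫ a = a') :
    pullHom k (kap a) ≫ (cmp k a a' h (Coh.structureModule Y)).hom = kap a' := by
  subst h
  rw [cmp_rfl]
  exact pullHom_comp k a _

theorem kap_pull {k : W ⟶ X} {a : X ⟶ Y} {a' : W ⟶ Y} (h : k ≫ a = a') {E : Y.Modules}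
    (ψ : (Scheme.Modules.pullback a).obj (Coh.structureModule Y) ⟶ (Scheme.Modules.pullback a).obj E) :
    kap a' ≫ pull k a a' h ψ = pullHom k (kap a ≫ ψ) ≫ (cmp k a a' h E).hom := by
  rw [pull, ← kap_cmp h, Category.assoc, Iso.hom_inv_id_assoc, pullHom_naturality, Category.assoc]

end Sections

section Model

variable {A : Type u} [CommRing A] {X : Scheme.{u}} {f : X ⟶ Spec (CommRingCat.of A)}

theorem exists_model [IsProper f] [LocallyOfFinitePresentation f] {L : X.Modules} (hL : PicF.IsInvertible L)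
    (s : Coh.structureModule X ⟶ L) :
    ∃ (m : Mdl f L) (t : Coh.structureModule m.Y ⟶ m.G), IsProper m.h ∧ PicF.IsInvertible m.G ∧
      CohB1.genLocus L s = m.g ⁻¹ᵁ CohB1.genLocus m.G t := by
  obtain ⟨m0⟩ := nonempty_mdl (f := f) (Models2.FibreFreeSch.isFP_of_isInvertible hL)
  obtain ⟨C1, h1, hp⟩ := exists_up_isProper m0 ‹_›
  let m1 := m0.up C1 h1
  obtain ⟨C2, h2, hinv⟩ := exists_up_invertible m1 hL
  let m2 := m1.up C2 h2
  have hp2 : IsProper m2.h := isProper_up m1 h2 hp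
  have hG2 : PicF.IsInvertible m2.G := hinv C2 le_rfl
  let φ : (Scheme.Modules.pullback m2.g).obj (Coh.structureModule m2.Y) ⟶ (Scheme.Modules.pullback m2.g).obj m2.G :=
    inv (kap m2.g) ≫ s ≫ m2.e.inv
  obtain ⟨C, h, ψ, hψ⟩ := exists_hom m2 (PerfB.StructFlat.isFP_structure) (Models2.FPCoh.isQCoh_of_isFP m2.fp)
    (Models2.FPCoh.isFT_of_isFP m2.fp) φ
  refine ⟨m2.up C h, kap (m2.pup h) ≫ ψ, isProper_up m2 h hp2, ?_, ?_⟩
  · exact isInvertible_pullback _ hG2
  · have h3 : kap m2.g ≫ φ = s ≫ m2.e.inv := by simp [φ]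
    rw [← hψ, kap_pull] at h3
    rw [← Ega2.SecCalc.genLocus_comp s m2.e.inv, ← h3, Ega2.SecCalc.genLocus_comp]
    exact Ega1.AmpFam.genLocus_pullHom (m2.gup h) (isInvertible_pullback _ hG2) _

end Model

theorem main : K755.SSPlan.GG.{u} := by
  intro A _ X f _ _ hd L hL s hfin
  obtain ⟨m, t, hp, hG, hgen⟩ := exists_model (f := f) hL s
  let Z : Set m.Y := (CohB1.genLocus m.G t : Set m.Y)ᶜ
  have hZ : IsClosed Z := (CohB1.genLocus m.G t).isOpen.isClosed_compl
  have h1 : ∀ y, sa m.B y ∈ GGBase.good m.h Z := by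
    intro y
    rw [← GGBase.mem_good_baseChange m.pb hZ y]
    refine ⟨hd y, ?_⟩
    convert hfin y using 1
    rw [hgen]
    rfl
  obtain ⟨C, hC, h2⟩ := exists_range_subset m.B (GGBase.isOpen_good m.h hZ) h1
  have hpb : IsPullback (m.pup hC) (m.hup hC) m.h (si hC) := IsPullback.of_hasPullback _ _
  have h3 : ∀ y, y ∈ GGBase.good (m.hup hC) (m.pup hC ⁻¹' Z) := fun y =>
    (GGBase.mem_good_baseChange hpb hZ y).2 (h2 y)
  let : (m.Yup hC).Over (Spec (CommRingCat.of C.1)) := ⟨m.hup hC⟩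
  have hL' : PicF.IsInvertible ((Scheme.Modules.pullback (m.pup hC)).obj m.G) := isInvertible_pullback _ hG
  have hproper : IsProper (m.Yup hC ↘ Spec (CommRingCat.of C.1)) := inferInstanceAs (IsProper (m.hup hC))
  obtain ⟨n, hn, hgg⟩ := GGNoeth.main (A := C.1) (X := m.Yup hC) (fun y => (h3 y).1) hL' (pullHom (m.pup hC) t)
    (fun y => by
      have h4 := (h3 y).2
      convert h4 using 1
      rw [Ega1.AmpFam.genLocus_pullHom (m.pup hC) hG]
      rfl)
  refine ⟨n, hn, ?_⟩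
  have h5 := VarietyB.GGStalk.isGloballyGenerated_pullback (m.gup hC) _ hgg
  obtain ⟨e1⟩ := Ega3B.PullTensor.nonempty_pullPowIso (m.gup hC) hL' n
  refine Ega2.GlobGenCrit.isGloballyGenerated_of_iso ?_ h5
  refine e1 ≪≫ Nonempty.some ?_
  rw [← Fga.PicMon.mc_eq_iff, Fga.PicMon.mc_tensorPow, Fga.PicMon.mc_tensorPow]
  congr 1
  exact Fga.PicMon.mc_eq ((cmp (m.gup hC) (m.pup hC) m.g (m.gup_pup hC) m.G) ≪≫ m.e)

end K481.GG
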