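import Groth.Agent.SSMod.K755.Plan5

/-!
# FINGEN: the non-closed points of the fibres of a relative curve over a finite base form a finite set
-/

set_option autoImplicit false
universe u
open CategoryTheory CategoryTheory.Limits AlgebraicGeometry TopologicalSpace

namespace K481.FinGen

/-- In a space all of whose irreducible components have dimension one, a point with a proper specialization
is the generic point of an irreducible component. -/
theorem closure_eq {X : Type u} [TopologicalSpace X] 
    (hd : ∀ T ∈ irreducibleComponents X, topologicalKrullDim T = 1) {x y : X} (h : x ⤳ y) (hne : ¬ y ⤳ x) :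
    irreducibleComponent x = closure {x} := by
  set Z := irreducibleComponent x with hZ
  have hZc : IsClosed Z := isClosed_irreducibleComponent
  have hxZ : x ∈ Z := mem_irreducibleComponent
  have hyZ : y ∈ Z := h.mem_closed hZc hxZ
  have h1 := hd Z (irreducibleComponent_mem_irreducibleComponents x)
  have h2 : Order.krullDim (IrreducibleCloseds Z) ≤ 1 := h1.le
  rw [Order.krullDim_le_one_iff] at h2
  let cx : IrreducibleCloseds Z := ⟨closure {⟨x, hxZ⟩}, isIrreducible_singleton.closure, isClosed_closure⟩
  let cy : IrreducibleCloseds Z := ⟨closure {⟨y, hyZ⟩}, isIrreducible_singleton.closure, isClosed_closure⟩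
  have hspec : (⟨x, hxZ⟩ : Z) ⤳ ⟨y, hyZ⟩ := (Topology.IsInducing.subtypeVal.specializes_iff).1 h
  have hirr : IrreducibleSpace Z := isIrreducible_iff_irreducibleSpace.1 isIrreducible_irreducibleComponent
  let tp : IrreducibleCloseds Z := ⟨Set.univ, IrreducibleSpace.isIrreducible_univ Z, isClosed_univ⟩
  rcases h2 cx with h3 | h3
  · exfalso
    have h4 : cy ≤ cx := hspec.closure_subset
    have h5 : cx ≤ cy := h3 h4
    have h6 : (⟨x, hxZ⟩ : Z) ∈ closure {(⟨y, hyZ⟩ : Z)} := h5 (subset_closure rfl)
    have h7 : (⟨y, hyZ⟩ : Z) ⤳ ⟨x, hxZ⟩ := specializes_iff_mem_closure.2 h6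
    exact hne ((Topology.IsInducing.subtypeVal.specializes_iff).2 h7)
  · have h4 : cx ≤ tp := Set.subset_univ _
    have h5 : tp ≤ cx := h3 h4
    apply Set.Subset.antisymm
    · intro z hz
      have h6 : (⟨z, hz⟩ : Z) ∈ closure {(⟨x, hxZ⟩ : Z)} := h5 (Set.mem_univ _)
      have h7 : (⟨x, hxZ⟩ : Z) ⤳ ⟨z, hz⟩ := specializes_iff_mem_closure.2 h6
      exact specializes_iff_mem_closure.1 ((Topology.IsInducing.subtypeVal.specializes_iff).2 h7)
    · exact closure_minimal (Set.singleton_subset_iff.2 hxZ) hZc

theorem main : K755.SSPlan.FinGen.{u} := by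
  intro X S _ p _ _ hd
  have hfin : ∀ s : S, (irreducibleComponents ↥(p.fiber s)).Finite := by
    intro s
    have : LocallyOfFiniteType (p.fiberToSpecResidueField s) :=
      MorphismProperty.pullback_snd _ _ inferInstance
    have : IsLocallyNoetherian (p.fiber s) :=
      LocallyOfFiniteType.isLocallyNoetherian (p.fiberToSpecResidueField s)
    have : IsNoetherian (p.fiber s) := {}
    exact TopologicalSpace.NoetherianSpace.finite_irreducibleComponents
  classical
  refine Set.Finite.subset (Set.finite_iUnion fun s : S =>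
    ((hfin s).preimage (f := fun y : ↥(p.fiber s) => closure {y}) ?_).image (p.fiberι s)) ?_
  · intro a _ b _ hab
    have h1 : a ⤳ b := by rw [specializes_iff_closure_subset]; exact hab.ge
    have h2 : b ⤳ a := by rw [specializes_iff_closure_subset]; exact hab.le
    exact (h1.antisymm h2).eq
  · rintro x ⟨x', hs, hne, hp⟩
    refine Set.mem_iUnion.2 ⟨p x, ?_⟩
    obtain ⟨y, hy⟩ : ∃ y, p.fiberι (p x) y = x := by
      have : x ∈ Set.range (p.fiberι (p x)) := by rw [Scheme.Hom.range_fiberι]; rfl
      exact this
    obtain ⟨y', hy'⟩ : ∃ y', p.fiberι (p x) y' = x' := by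
      have : x' ∈ Set.range (p.fiberι (p x)) := by rw [Scheme.Hom.range_fiberι]; exact hp
      exact this
    have h1 : y ⤳ y' := by
      rw [← (p.fiberι (p x)).isEmbedding.isInducing.specializes_iff, hy, hy']
      exact hs
    have h2 : ¬ y' ⤳ y := fun h => hne (by rw [← hy, ← hy', (h1.antisymm h).eq])
    have h3 := closure_eq (hd (p x)) h1 h2
    refine ⟨y, ?_, hy⟩
    rw [Set.mem_preimage, ← h3]
    exact irreducibleComponent_mem_irreducibleComponents y

end K481.FinGen
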