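import Groth.Agent.Pic13.H946.Main
import Groth.Agent.Flat2G.FibDimVanish
import Groth.Agent.S0012
import Groth.Agent.VarietyB.GlobGen
import Groth.Agent.Ega2.SecCalc
import Groth.Agent.CohqB.HomSheaf
import Mathlib.AlgebraicGeometry.ZariskisMainTheorem

/-!
# Global generation from a section with fibrewise finite zero locus: the Noetherian case
-/

set_option autoImplicit false
universe u
open CategoryTheory CategoryTheory.Limits AlgebraicGeometry Opposite TopologicalSpace

namespace K481.GGNoeth

open Groth.Agent Groth.Agent.Ega2 Groth.Agent.Fdesc.LocGen Groth.Agent.Fga.RegSec Groth.Agent.VarietyA.EulerLES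
open Groth.Agent.Fga.PicMon Groth.Agent.CohqB.SerTw Groth.Agent.CohqB.VanSub
open Groth.Agent.Pic13.H946.PMax Groth.Agent.Pic13.H946.Core

/-! ### Algebra -/

/-- In a sequence of surjections of finite modules over a Noetherian ring some map is injective. -/
theorem exists_injective {A : Type u} [CommRing A] [IsNoetherianRing A] (M : ℕ → Type u)
    [∀ n, AddCommGroup (M n)] [∀ n, Module A (M n)] [Module.Finite A (M 0)]
    (f : ∀ n, M n →ₗ[A] M (n + 1)) (hf : ∀ n, Function.Surjective (f n)) :
    ∃ n, Function.Injective (f n) := by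
  let g : ∀ n, M 0 →ₗ[A] M n := fun n => Nat.rec LinearMap.id (fun n ih => (f n).comp ih) n
  have hg : ∀ n, Function.Surjective (g n) := by
    intro n
    induction n with
    | zero => exact Function.surjective_id
    | succ n ih => exact (hf n).comp ih
  have hK : Monotone fun n => LinearMap.ker (g n) := by
    apply monotone_nat_of_le_succ
    intro n x hx
    change f n (g n x) = 0
    rw [LinearMap.mem_ker.1 hx, map_zero]
  have hN : IsNoetherian A (M 0) := isNoetherian_of_isNoetherianRing_of_finite A (M 0)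
  obtain ⟨n, hn⟩ := (monotone_stabilizes_iff_noetherian (R := A) (M := M 0)).2 hN ⟨_, hK⟩
  refine ⟨n, ?_⟩
  rw [← LinearMap.ker_eq_bot, eq_bot_iff]
  intro x hx
  obtain ⟨x, rfl⟩ := hg n x
  have h1 : x ∈ LinearMap.ker (g (n + 1)) := hx
  have h2 : x ∈ LinearMap.ker (g n) := by
    have := hn (n + 1) n.le_succ
    change LinearMap.ker (g n) = LinearMap.ker (g (n + 1)) at this
    rw [this]; exact h1
  exact LinearMap.mem_ker.1 h2

/-! ### Vanishing -/

/-- Coherent modules supported on a closed subset with finite fibres over an affine base have no higher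
cohomology. -/
theorem subsingleton_of_support {A : Type u} [CommRing A] [IsNoetherianRing A] {X : Scheme.{u}}
    (f : X ⟶ Spec (CommRingCat.of A)) [IsProper f] {Z : Set X} (hZc : IsClosed Z)
    (hZ : ∀ y, (f ⁻¹' {y} ∩ Z).Finite) (F : X.Modules) (hF : Coh.IsCoh F)
    (hs : CohB1.support F ⊆ Z) (p : ℕ) (hp : 0 < p) : Subsingleton (Coh.HH X F p) := by
  have hlN : IsLocallyNoetherian X := LocallyOfFiniteType.isLocallyNoetherian f
  have hNoeth : IsNoetherian X :=
    { toIsLocallyNoetherian := hlN
      toCompactSpace := QuasiCompact.compactSpace_of_compactSpace f }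
  rcases isEmpty_or_nonempty X with hemp | hne
  · refine Fga.IntNum0.HH_subsingleton_of_isZero ?_ p
    apply CohqB.DevSupport.isZero_of_support_eq_empty
    exact Set.eq_empty_of_isEmpty _
  refine S0027.result X (fun F => CohB1.support F ⊆ Z → Subsingleton (Coh.HH X F p)) ?_ ?_ ?_ F hF hs
  · rintro M N ⟨e⟩ h hN
    have := h (by rwa [CohqB.DevSupport.support_congr e])
    exact (equivΓ e p).symm.injective.subsingleton
  · intro S hS _ _ _ h1 h3 h2
    rw [CohqB.DevSupport.support_shortExact hS] at h2
    have h1' := h1 (Set.subset_union_left.trans h2)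
    have h3' := h3 (Set.subset_union_right.trans h2)
    refine subsingleton_of_forall_eq 0 fun y => ?_
    obtain ⟨x, rfl⟩ := (exact₂ S hS p y).1 (Subsingleton.elim _ _)
    rw [Subsingleton.elim x 0, map_zero]
  · intro Z' i hi hZ' I ι hι hI h
    by_cases hg : genericPoint Z' ∈ CohB1.support I
    · have h1 : Set.range i ⊆ Z := by
        rintro _ ⟨z, rfl⟩
        have h2 : i (genericPoint Z') ∈ Z := h (by
          rw [CohqB.DevSimple.support_push]
          exact ⟨_, hg, rfl⟩)
        exact ((genericPoint_specializes z).map i.continuous).mem_closed hZc h2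
      have h3 : LocallyQuasiFinite (i ≫ f) := by
        refine LocallyQuasiFinite.of_finite_preimage_singleton _ fun y => ?_
        refine ((hZ y).preimage i.isClosedEmbedding.injective.injOn).subset ?_
        intro z hz
        exact ⟨hz, h1 ⟨z, rfl⟩⟩
      have h4 : IsFinite (i ≫ f) := IsFinite.of_isProper_of_locallyQuasiFinite _
      have h5 : IsAffine Z' := isAffine_of_isAffineHom (i ≫ f)
      obtain ⟨e⟩ := S0012.result i I p
      have h6 := CohqA.AffineVanish.HH_subsingleton Z' I p hp
      exact e.symm.injective.subsingleton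
    · exact Fga.IntNum0.HH_subsingleton_of_isZero
        ((Coh.push i).map_isZero (Pic13.H946.Main.isZero_of_torsion ι hg)) p

/-! ### Surjectivity on `H¹` -/

section Surj

variable (A : Type u) [CommRing A] {X : Scheme.{u}} [X.Over (Spec (CommRingCat.of A))]

/-- `H¹(F ⊗ N) → H¹(G ⊗ N)` is surjective if `H²` of the twisted kernel and `H¹` of the twisted cokernel vanish. -/
theorem surjective_tw {N : X.Modules} (hN : PicF.IsInvertible N) {F G : X.Modules} (φ : F ⟶ G)
    (h1 : Subsingleton (Coh.HH X ((tw N).obj (kernel φ)) 2))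
    (h2 : Subsingleton (Coh.HH X ((tw N).obj (cokernel φ)) 1)) :
    Function.Surjective (mapA A ((tw N).map φ) 1) := by
  have e1 : Function.Surjective (mapA A ((tw N).map (Abelian.factorThruImage φ)) 1) := fun y =>
    (exactA₃ A _ (shortExact_tw hN (CohqB.SerMain.seq₁_shortExact φ)) 1 2 rfl y).mp
      (Subsingleton.elim (h := h1) _ _)
  have e2 : Function.Surjective (mapA A ((tw N).map (Abelian.image.ι φ)) 1) := fun y =>
    (exactA₂ A _ (shortExact_tw hN (CohqB.SerMain.seq₂_shortExact φ)) 1 y).mp
      (Subsingleton.elim (h := h2) _ _)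
  have h3 : mapA A ((tw N).map φ) 1 = (mapA A ((tw N).map (Abelian.image.ι φ)) 1).comp
      (mapA A ((tw N).map (Abelian.factorThruImage φ)) 1) := by
    rw [← mapA_comp, ← Functor.map_comp, Abelian.image.fac]
  rw [h3]
  exact e2.comp e1

end Surj

/-! ### Sections of sheaves supported at a closed point -/

/-- A nonzero module supported at a closed point has a nonzero global section. -/
theorem exists_section_ne_zero {X : Scheme.{u}} {F : X.Modules} {P : X} (hP : IsClosed ({P} : Set X))
    (hF : CohB1.support F = {P}) :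
    ∃ t : Γ(F, ⊤), t ≠ 0 := by
  have hPF : P ∈ CohB1.support F := by rw [hF]; rfl
  have h0 : ∃ p : F.presheaf.stalk P, p ≠ 0 := by
    by_contra hcon
    push Not at hcon
    exact hPF (subsingleton_of_forall_eq 0 hcon)
  obtain ⟨p, hp⟩ := h0
  obtain ⟨V, hxV, t, rfl⟩ := TopCat.Presheaf.exists_germ_eq F.presheaf p
  let W : Bool → X.Opens := fun b => if b then V else ⟨{P}ᶜ, hP.isOpen_compl⟩
  have hsub : ∀ U : X.Opens, P ∉ U → ∀ a b : Γ(F, U), a = b := by
    intro U hU a b
    have := CohqB.DevSupport.subsingleton_sections_of_support F U (fun x hx h => by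
      rw [hF] at h
      exact hU (by rw [← Set.mem_singleton_iff.1 h]; exact hx))
    exact Subsingleton.elim a b
  obtain ⟨w, hw⟩ := CohqB.HomSheaf.exists_glue F W ⊤ (by
      intro x _
      by_cases hx : x = P
      · exact Opens.mem_iSup.mpr ⟨true, by rw [hx]; exact hxV⟩
      · exact Opens.mem_iSup.mpr ⟨false, hx⟩) (fun _ => le_top)
    (fun b => match b with
      | true => t
      | false => 0) (by
      intro i j U hi hj
      cases i <;> cases j
      · rfl
      · exact hsub U (fun hPU => hi hPU rfl) _ _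
      · exact hsub U (fun hPU => hj hPU rfl) _ _
      · rfl)
  refine ⟨w, fun h => hp ?_⟩
  have h1 := hw true
  rw [h, map_zero] at h1
  change (0 : Γ(F, V)) = t at h1
  rw [← h1, map_zero]

/-! ### The theorem -/

section Main

variable {A : Type u} [CommRing A] [IsNoetherianRing A] {X : Scheme.{u}}
  [X.Over (Spec (CommRingCat.of A))] [IsProper (X ↘ Spec (CommRingCat.of A))]

theorem main (hd : ∀ y, topologicalKrullDim ↥((X ↘ Spec (CommRingCat.of A)).fiber y) ≤ 1)
    {L : X.Modules} (hL : PicF.IsInvertible L) (s : Coh.structureModule X ⟶ L)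
    (hfin : ∀ y, ((X ↘ Spec (CommRingCat.of A)) ⁻¹' {y} \ (CohB1.genLocus L s : Set X)).Finite) :
    ∃ n : ℕ, 0 < n ∧ Curv2.IsGloballyGenerated (CohB1.tensorPow L n) := by
  set f := X ↘ Spec (CommRingCat.of A)
  have hlN : IsLocallyNoetherian X := LocallyOfFiniteType.isLocallyNoetherian f
  have hNoeth : IsNoetherian X :=
    { toIsLocallyNoetherian := hlN
      toCompactSpace := QuasiCompact.compactSpace_of_compactSpace f }
  have hO : Coh.IsCoh (Coh.structureModule X) := Fga.HodgeSec.isCoh_of_isInvertible isInvertible_structureModule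
  have hT : ∀ n, PicF.IsInvertible (CohB1.tensorPow L n) := fun n => isInvertible_tensorPow hL n
  let Z : Set X := (CohB1.genLocus L s : Set X)ᶜ
  have hZc : IsClosed Z := (CohB1.genLocus L s).isOpen.isClosed_compl
  have hZ : ∀ y, (f ⁻¹' {y} ∩ Z).Finite := hfin
  -- `H²` vanishes
  have hH2 : ∀ F : X.Modules, Coh.IsCoh F → Subsingleton (Coh.HH X F 2) := fun F hF =>
    Flat2G.FibDimVanish.subsingleton_HH f 1 (fun y => by simpa using hd y) F hF.1 2 (by norm_num)
  have hsurj : ∀ (n : ℕ) {F G : X.Modules} (φ : F ⟶ G), Coh.IsCoh F → Coh.IsCoh G →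
      (∀ x, x ∉ Z → Epi ((CohqB.DevSupport.stalkF X x).map φ)) →
      Function.Surjective (mapA A ((tw (CohB1.tensorPow L n)).map φ) 1) := by
    intro n F G φ hF hG hepi
    have hc : Coh.IsCoh (cokernel φ) := isCoh_cokernel φ hF.1 hG
    refine surjective_tw A (hT n) φ ?_ ?_
    · exact hH2 _ (Fga.TwistCoh.isCoh_tensor (isCoh_kernel φ hF hG.1) (hT n))
    · refine subsingleton_of_support f hZc hZ _ (Fga.TwistCoh.isCoh_tensor hc (hT n)) ?_ 1 one_pos
      refine (Fga.TwistCoh.support_tensor_subset (hT n)).trans ?_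
      intro x hx
      by_contra hxZ
      exact not_mem_support_cokernel φ (hepi x hxZ) hx
  -- multiplication by the section
  let s₁ : Coh.structureModule X ⟶ (tw L).obj (Coh.structureModule X) := s ≫ (Tens.lunit L).inv
  have hgs₁ : ∀ x, x ∈ CohB1.genLocus L s ↔ x ∈ CohB1.genLocus _ s₁ := by
    intro x
    rw [Ega2.SecCalc.genLocus_comp]
  have hOL : Coh.IsCoh ((tw L).obj (Coh.structureModule X)) := Fga.TwistCoh.isCoh_tensor hO hL
  have mc1 : ∀ n, mc ((tw (CohB1.tensorPow L n)).obj ((tw L).obj (Coh.structureModule X))) =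
      mc ((tw (CohB1.tensorPow L (n + 1))).obj (Coh.structureModule X)) := by
    intro n
    rw [tw_obj, tw_obj, tw_obj, mc_tensor, mc_tensor, mc_tensor, mc_one, one_mul, one_mul, mc_tensorPow, mc_tensorPow,
      pow_succ, mul_comm]
  have hiso : ∀ n, Nonempty ((tw (CohB1.tensorPow L n)).obj ((tw L).obj (Coh.structureModule X)) ≅
      (tw (CohB1.tensorPow L (n + 1))).obj (Coh.structureModule X)) := fun n => (mc_eq_iff _ _).1 (mc1 n)
  let e := fun n => (hiso n).some
  have hs₁surj : ∀ n, Function.Surjective (mapA A ((tw (CohB1.tensorPow L n)).map s₁) 1) := by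
    intro n
    refine hsurj n s₁ hO hOL fun x hx => ?_
    have : IsIso ((CohqB.DevSupport.stalkF X x).map s₁) :=
      isIso_stalk_sec s₁ ((hgs₁ x).1 (by simpa [Z] using hx))
    infer_instance
  let M : ℕ → Type u := fun n => Coh.HH X ((tw (CohB1.tensorPow L n)).obj (Coh.structureModule X)) 1
  have hM0 : Module.Finite A (M 0) := S0002.result A X _ (Fga.TwistCoh.isCoh_tensor hO (hT 0)) 1
  let g : ∀ n, M n →ₗ[A] M (n + 1) := fun n =>
    (equivA A (e n) 1).toLinearMap.comp (mapA A ((tw (CohB1.tensorPow L n)).map s₁) 1)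
  obtain ⟨n, hn⟩ := exists_injective M g fun n => (equivA A (e n) 1).surjective.comp (hs₁surj n)
  have hinj₁ : Function.Injective (mapA A ((tw (CohB1.tensorPow L n)).map s₁) 1) := by
    intro x y hxy
    apply hn
    exact congrArg (equivA A (e n) 1) hxy
  have mc2 : mc ((tw (CohB1.tensorPow L n)).obj ((tw L).obj (Coh.structureModule X))) =
      mc (CohB1.tensorPow L (n + 1)) := by
    rw [mc1 n, tw_obj, mc_tensor, mc_one, one_mul]
  refine ⟨n + 1, n.succ_pos, ?_⟩
  -- sections at closed points
  have key : ∀ P : X, IsClosed ({P} : Set X) → P ∉ CohB1.genLocus L s →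
      ∃ t : Coh.structureModule X ⟶ CohB1.tensorPow L (n + 1), P ∈ CohB1.genLocus _ t := by
    intro P hP hPs
    let ι := (van {P}).ι
    have hI : Coh.IsCoh (van {P}).toModules := S0046.result X _ _ ι hO (isQCoh_van {P})
    let jN : (tw L).obj (van {P}).toModules ⟶ (tw L).obj (Coh.structureModule X) := (tw L).map ι
    have hjN : PMax P jN := (pmax_van P).tensor hL
    have hmonoj : Mono jN := mono_tensor ι hL
    have hPs₁ : P ∉ CohB1.genLocus _ s₁ := fun h => hPs ((hgs₁ P).2 h)
    obtain ⟨s', hs'⟩ := hjN.exists_lift s₁ hPs₁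
    have hIL : Coh.IsCoh ((tw L).obj (van {P}).toModules) := Fga.TwistCoh.isCoh_tensor hI hL
    have hs'surj : Function.Surjective (mapA A ((tw (CohB1.tensorPow L n)).map s') 1) := by
      refine hsurj n s' hO hIL fun x hx => ?_
      have hiso₁ : IsIso ((CohqB.DevSupport.stalkF X x).map s₁) :=
        isIso_stalk_sec s₁ ((hgs₁ x).1 (by simpa [Z] using hx))
      have hm : Mono ((CohqB.DevSupport.stalkF X x).map jN) := inferInstance
      have hcomp : (CohqB.DevSupport.stalkF X x).map s' ≫ (CohqB.DevSupport.stalkF X x).map jN =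
          (CohqB.DevSupport.stalkF X x).map s₁ := by
        rw [← Functor.map_comp, hs']
      have hep : IsSplitEpi ((CohqB.DevSupport.stalkF X x).map jN) := by
        refine ⟨⟨inv ((CohqB.DevSupport.stalkF X x).map s₁) ≫ (CohqB.DevSupport.stalkF X x).map s', ?_⟩⟩
        rw [Category.assoc, hcomp, IsIso.inv_hom_id]
      have hj : IsIso ((CohqB.DevSupport.stalkF X x).map jN) := isIso_of_mono_of_isSplitEpi _
      have : IsIso ((CohqB.DevSupport.stalkF X x).map s') := by
        have : IsIso ((CohqB.DevSupport.stalkF X x).map s' ≫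
          (CohqB.DevSupport.stalkF X x).map jN) := by rw [hcomp]; exact hiso₁
        exact IsIso.of_isIso_comp_right _ ((CohqB.DevSupport.stalkF X x).map jN)
      infer_instance
    have hinj : Function.Injective (mapA A ((tw (CohB1.tensorPow L n)).map jN) 1) := by
      have hc : (tw (CohB1.tensorPow L n)).map s₁ =
          (tw (CohB1.tensorPow L n)).map s' ≫ (tw (CohB1.tensorPow L n)).map jN := by
        rw [← Functor.map_comp, hs']
      have h2 := hinj₁
      rw [hc, mapA_comp] at h2
      intro x y hxy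
      obtain ⟨x, rfl⟩ := hs'surj x
      obtain ⟨y, rfl⟩ := hs'surj y
      exact congrArg _ (h2 hxy)
    let S : ShortComplex X.Modules := ((cokSeq ι).map (tw L)).map (tw (CohB1.tensorPow L n))
    have hS : S.ShortExact := shortExact_tw (hT n) (shortExact_tw hL (cokSeq_shortExact ι))
    have hS1 : Function.Surjective (mapA A S.g 0) := by
      intro y
      have hinj' : Function.Injective (mapA A S.f 1) := hinj
      have h3 : mapA A S.f 1 (deltaA A S hS 0 1 rfl y) = 0 := (exactA₁ A S hS 0 1 rfl _).mpr ⟨y, rfl⟩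
      exact (exactA₃ A S hS 0 1 rfl y).mp (hinj' (h3.trans (map_zero _).symm))
    have hsupp : CohB1.support S.X₃ = {P} := by
      change CohB1.support (CohB1.tensorMod (CohB1.tensorMod (cokernel ι) L) (CohB1.tensorPow L n)) = {P}
      rw [support_tw (hT n), support_tw hL]
      exact support_coker_van P hP
    by_contra hcon
    push Not at hcon
    have hPG : ∀ t : Coh.structureModule X ⟶ S.X₂, P ∉ CohB1.genLocus _ t := by
      intro t ht
      obtain ⟨e'⟩ := (mc_eq_iff _ _).mp mc2
      exact hcon (t ≫ e'.hom) (mem_genLocus_comp t e'.hom ht)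
    have hPM : PMax P S.f := hjN.tensor (hT n)
    have : Mono S.f := hS.mono_f
    have hsurj0 : Function.Surjective (mapA A S.f 0) := by
      intro x
      obtain ⟨t', ht'⟩ := hPM.exists_lift (homOf (CurvesB.HZero.equivAdd S.X₂ x)) (hPG _)
      refine ⟨(CurvesB.HZero.equivAdd S.X₁).symm (sec t' ⊤), ?_⟩
      apply (CurvesB.HZero.equivAdd S.X₂).injective
      have h6 := CurvesB.HZero.equivAdd_map S.f ((CurvesB.HZero.equivAdd S.X₁).symm (sec t' ⊤))
      refine h6.trans ?_
      rw [AddEquiv.apply_symm_apply, ← sec_comp, ht', sec_homOf, res_refl]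
    obtain ⟨t, ht⟩ := exists_section_ne_zero hP hsupp
    apply ht
    obtain ⟨y, hy⟩ := hS1 ((CurvesB.HZero.equivAdd S.X₃).symm t)
    obtain ⟨z, rfl⟩ := hsurj0 y
    have h0 : mapA A S.g 0 (mapA A S.f 0 z) = 0 := (exactA₂ A S hS 0 _).mpr ⟨z, rfl⟩
    rw [h0] at hy
    apply (CurvesB.HZero.equivAdd S.X₃).symm.injective
    rw [← hy, map_zero]
  -- conclusion
  have key' : ∀ x : X, ∃ t : Coh.structureModule X ⟶ CohB1.tensorPow L (n + 1), x ∈ CohB1.genLocus _ t := by
    intro x
    by_cases hx : x ∈ CohB1.genLocus L s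
    · let t : Coh.structureModule X ⟶ CohB1.tensorPow L 1 := s ≫ (Tens.lunit L).inv
      have ht : CohB1.genLocus _ t = CohB1.genLocus L s := Ega2.SecCalc.genLocus_comp _ _
      refine ⟨Ega2.SecCalc.castSec (one_mul (n + 1)) (Ega2.SecCalc.powSec t (n + 1)), ?_⟩
      rw [Ega2.SecCalc.genLocus_castSec, Ega2.SecCalc.genLocus_powSec hL _ (Nat.succ_ne_zero n), ht]
      exact hx
    · obtain ⟨P, hP1, hP2⟩ := (isClosed_closure (s := ({x} : Set X))).exists_closed_singleton
        ⟨x, subset_closure rfl⟩
      have hxP : x ⤳ P := specializes_iff_mem_closure.2 hP1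
      have hPs : P ∉ CohB1.genLocus L s := fun h => hx (hxP.mem_open (CohB1.genLocus L s).isOpen h)
      obtain ⟨t, ht⟩ := key P hP2 hPs
      exact ⟨t, hxP.mem_open (CohB1.genLocus _ t).isOpen ht⟩
  exact VarietyB.GlobGen.isGloballyGenerated_of_cover (κ := X) (fun x => (key' x).choose)
    fun x => ⟨x, (key' x).choose_spec⟩

end Main

end K481.GGNoeth
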