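import Mathlib.RingTheory.Ideal.KrullsHeightTheorem
import Mathlib.RingTheory.RegularLocalRing.Defs
import Mathlib.RingTheory.Ideal.MinimalPrime.Basic
import Mathlib.RingTheory.Nakayama

/-!
# Commutative algebra for marked points

The kernel of a section of a local ring of relative dimension one with regular special fibre is principal; a
hypersurface not containing the special fibre has a component which is not contained in it.
-/

set_option autoImplicit false
universe u

open IsLocalRing

namespace K481.MarksAlg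

/-- The kernel of a section `σ : B → R` is principal if the maximal ideal of `B` is generated by `ϖ` and one
further element. -/
theorem exists_ker_eq_span {R B : Type u} [CommRing R] [IsDomain R] [CommRing B] [IsLocalRing B]
    [IsNoetherianRing B] (φ : R →+* B) (σ : B →+* R) (hσ : ∀ r, σ (φ r) = r) {ϖ : R} (hϖ : ϖ ≠ 0)
    (hφ : φ ϖ ∈ maximalIdeal B)
    (hloc : ∀ b ∈ maximalIdeal B, ϖ ∣ σ b) {s : B} (hs : s ∈ maximalIdeal B)
    (hm : maximalIdeal B ≤ Ideal.span {φ ϖ, s}) : ∃ t, RingHom.ker σ = Ideal.span {t} := by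
  obtain ⟨r₀, hr₀⟩ := hloc s hs
  let t : B := s - φ (ϖ * r₀)
  have ht : σ t = 0 := by
    simp only [t, map_sub, hσ, hr₀, sub_self]
  have hker : RingHom.ker σ ≤ maximalIdeal B := IsLocalRing.le_maximalIdeal (RingHom.ker_ne_top σ)
  refine ⟨t, le_antisymm ?_ ?_⟩
  · refine Submodule.le_of_le_smul_of_le_jacobson_bot (IsNoetherian.noetherian _)
      (IsLocalRing.maximalIdeal_le_jacobson ⊥) ?_
    intro a ha
    obtain ⟨x, y, hxy⟩ := Ideal.mem_span_pair.1 (hm (hker ha))
    have hst : s = t + φ ϖ * φ r₀ := by simp only [t, map_mul]; ring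
    have h1 : a = y * t + φ ϖ * (x + y * φ r₀) := by
      rw [← hxy, hst]; ring
    have h2 : x + y * φ r₀ ∈ RingHom.ker σ := by
      rw [RingHom.mem_ker]
      have h3 : σ a = ϖ * σ (x + y * φ r₀) := by
        rw [h1, map_add, map_mul, map_mul, hσ, ht, mul_zero, zero_add]
      rw [RingHom.mem_ker.1 ha] at h3
      exact (mul_eq_zero.1 h3.symm).resolve_left hϖ
    rw [h1]
    exact Submodule.add_mem_sup (Ideal.mul_mem_left _ _ (Ideal.mem_span_singleton_self t))
      (Submodule.smul_mem_smul hφ h2)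
  · rw [Ideal.span_singleton_le_iff_mem]
    exact ht

/-- Krull: if `(π)` is prime, `π` is not a zero divisor and `τ` is a non-unit not in `(π)`, then `τ` is contained in
a prime ideal which does not contain `π`. -/
theorem exists_prime_notMem {A : Type u} [CommRing A] [IsNoetherianRing A] {π τ : A}
    (hπ : π ∈ nonZeroDivisors A) (hp : (Ideal.span {π}).IsPrime) (hτ : ¬ IsUnit τ)
    (hτπ : τ ∉ Ideal.span {π}) : ∃ P : Ideal A, P.IsPrime ∧ τ ∈ P ∧ π ∉ P := by
  obtain ⟨P, hP⟩ := (Ideal.span {τ}).nonempty_minimalPrimes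
    (by rwa [Ne, Ideal.span_singleton_eq_top])
  have hPp : P.IsPrime := hP.1.1
  have hτP : τ ∈ P := hP.1.2 (Ideal.mem_span_singleton_self τ)
  refine ⟨P, hPp, hτP, fun hπP => ?_⟩
  have h1 := Ideal.height_le_one_of_isPrincipal_of_mem_minimalPrimes _ P hP
  have h2 : Ideal.span {π} < P := by
    refine lt_of_le_of_ne ((Ideal.span_singleton_le_iff_mem _).2 hπP) ?_
    rintro rfl
    exact hτπ hτP
  have h3 : (1 : ℕ∞) ≤ (Ideal.span {π}).height := by
    rw [Order.one_le_iff_ne_zero, Ne, Ideal.height_eq_zero_iff]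
    intro h
    exact Set.disjoint_left.1 (Ideal.disjoint_nonZeroDivisors_of_mem_minimalPrimes h)
      (Ideal.mem_span_singleton_self π) hπ
  have h4 := Ideal.height_add_one_le_of_lt_of_isPrime h2
  have h5 : (2 : ℕ∞) ≤ 1 := by
    calc (2 : ℕ∞) = 1 + 1 := by norm_num
      _ ≤ (Ideal.span {π}).height + 1 := by gcongr
      _ ≤ P.height := h4
      _ ≤ 1 := h1
  exact absurd h5 (by decide)

/-- A regular local ring of dimension at most one has principal maximal ideal. -/
theorem exists_maximalIdeal_eq {A : Type u} [CommRing A] [IsRegularLocalRing A] (hd : ringKrullDim A ≤ 1) :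
    ∃ s, maximalIdeal A = Ideal.span {s} := by
  have h1 : (maximalIdeal A).spanFinrank ≤ 1 := by
    have := IsRegularLocalRing.spanFinrank_maximalIdeal (R := A)
    rw [← this] at hd
    exact_mod_cast hd
  obtain ⟨S, hS, hS'⟩ := Submodule.FG.exists_span_set_encard_eq_spanFinrank (IsNoetherian.noetherian (maximalIdeal A))
  have h2 : S.encard ≤ 1 := by
    rw [hS]; exact_mod_cast h1
  rcases Set.encard_le_one_iff_eq.1 h2 with rfl | ⟨s, rfl⟩
  · refine ⟨0, ?_⟩
    rw [← hS']
    simp
  · exact ⟨s, hS'.symm⟩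

end K481.MarksAlg
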