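import Groth.Agent.SSMod.K807.Iface
import Groth.Agent.SSMod.K971.EtaNbhd
import Groth.Agent.SSMod.K481.MarksAlg
import Groth.Agent.Models.K382.NodeOpen
import Groth.Agent.EtDesc.K223.WESec
import Groth.Agent.Variety.K435.StalkPt
import Groth.Agent.FibDim.K582.RelDim
import Groth.Agent.AlgSp.K616.DimInv

/-!
# Marked points (node (C) of the DVR case of S15273)
-/

set_option autoImplicit false
universe u
open CategoryTheory CategoryTheory.Limits AlgebraicGeometry TopologicalSpace IsLocalRing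

namespace K481.Marks

/-! ### Étale schemes over a strictly henselian local ring -/

section Etale

variable {P : Scheme.{u}} {A : Type u} [CommRing A] [HenselianLocalRing A]
  [IsSepClosed (IsLocalRing.ResidueField A)]

/-- The section of an étale scheme through a point over the closed point; its range consists of the generizations
of the point. -/
theorem exists_section (p : P ⟶ Spec (CommRingCat.of A)) [Etale p] (y : P)
    (hy : p y = (closedPoint A : PrimeSpectrum A)) :
    ∃ s : Spec (CommRingCat.of A) ⟶ P, s ≫ p = 𝟙 _ ∧ s (closedPoint A : PrimeSpectrum A) = y ∧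
      ∀ z, z ⤳ y → z = s (p z) := by
  have h0 := K223.WESec.isIso_fromSpecStalk_comp p y hy
  let s : Spec (CommRingCat.of A) ⟶ P := inv (P.fromSpecStalk y ≫ p) ≫ P.fromSpecStalk y
  have hs : s ≫ p = 𝟙 _ := by simp [s]
  have hz : ∀ z, z ⤳ y → z = s (p z) := by
    intro z hz
    have h1 : z ∈ Set.range (P.fromSpecStalk y) := by
      rw [Scheme.range_fromSpecStalk]; exact hz
    obtain ⟨w, rfl⟩ := h1
    have h2 : P.fromSpecStalk y ≫ p ≫ s = P.fromSpecStalk y := by
      rw [← Category.assoc]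
      exact IsIso.hom_inv_id_assoc _ _
    change _ = (P.fromSpecStalk y ≫ p ≫ s) w
    rw [h2]
  refine ⟨s, hs, ?_, hz⟩
  have h3 := hz y specializes_rfl
  rw [hy] at h3
  exact h3.symm

/-- Two generizations over the same point are equal. -/
theorem eq_of_specializes (p : P ⟶ Spec (CommRingCat.of A)) [Etale p] {y z₁ z₂ : P}
    (hy : p y = (closedPoint A : PrimeSpectrum A)) (h₁ : z₁ ⤳ y) (h₂ : z₂ ⤳ y) (h : p z₁ = p z₂) :
    z₁ = z₂ := by
  obtain ⟨s, -, -, hs⟩ := exists_section p y hy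
  rw [hs _ h₁, hs _ h₂, h]

/-- A point of a separated étale scheme has at most one specialization over the closed point. -/
theorem eq_of_specializes' (p : P ⟶ Spec (CommRingCat.of A)) [Etale p] [IsSeparated p] {y₁ y₂ z : P}
    (hy₁ : p y₁ = (closedPoint A : PrimeSpectrum A)) (hy₂ : p y₂ = (closedPoint A : PrimeSpectrum A))
    (h₁ : z ⤳ y₁) (h₂ : z ⤳ y₂) : y₁ = y₂ := by
  obtain ⟨s, hsp, hsc, hs⟩ := exists_section p y₁ hy₁
  have hcl : IsClosedImmersion s := by
    have : IsClosedImmersion (s ≫ p) := by rw [hsp]; infer_instance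
    exact IsClosedImmersion.of_comp s p
  have h3 : z ∈ Set.range s := ⟨_, (hs z h₁).symm⟩
  have h4 : y₂ ∈ Set.range s := by
    have h5 : IsClosed (Set.range s) := s.isClosedEmbedding.isClosed_range
    exact h₂.mem_closed h5 h3
  obtain ⟨r, rfl⟩ := h4
  have h6 : (s ≫ p) r = (closedPoint A : PrimeSpectrum A) := hy₂
  rw [hsp] at h6
  have h7 : r = (closedPoint A : PrimeSpectrum A) := h6
  rw [h7, hsc]

/-- Points over the closed point of a separated étale scheme are closed. -/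
theorem isClosed_singleton (p : P ⟶ Spec (CommRingCat.of A)) [Etale p] [IsSeparated p] {y : P}
    (hy : p y = (closedPoint A : PrimeSpectrum A)) : IsClosed ({y} : Set P) := by
  obtain ⟨s, hsp, hsc, hs⟩ := exists_section p y hy
  have hcl : IsClosedImmersion s := by
    have : IsClosedImmersion (s ≫ p) := by rw [hsp]; infer_instance
    exact IsClosedImmersion.of_comp s p
  have h5 : IsClosed (s '' {(closedPoint A : PrimeSpectrum A)}) :=
    s.isClosedEmbedding.isClosedMap _ (IsLocalRing.isClosed_singleton_closedPoint A)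
  have h6 : ({y} : Set P) = s '' {(closedPoint A : PrimeSpectrum A)} := by
    rw [← hsc]; exact Set.image_singleton.symm
  rwa [h6]

end Etale

/-! ### Smooth points of the special fibre -/

section Fibre

variable {X S : Scheme.{u}}

theorem isRegular_fib (q : X ⟶ S) [LocallyOfFinitePresentation q] (x : X) (hx : x ∈ q.smoothLocus)
    {s : S} (hs : q x = s) (z : q.fiber s) (hz : q.fiberι s z = x) :
    IsRegularLocalRing ((q.fiber s).presheaf.stalk z) := by
  subst hs
  have h1 : z = q.asFiber x := (q.fiberι (q x)).isEmbedding.injective (by rw [hz, q.fiberι_asFiber])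
  subst h1
  exact Groth.Agent.S3700.isRegularLocalRing_fiberStalk q x hx

theorem dim_fib (q : X ⟶ S) [LocallyOfFiniteType q] {d : ℕ} (hd : Cyc.HasRelDim q d) (x : X)
    {s : S} (hs : q x = s) (z : q.fiber s) (hz : q.fiberι s z = x) :
    ringKrullDim ((q.fiber s).presheaf.stalk z) ≤ d := by
  subst hs
  have h1 : z = q.asFiber x := (q.fiberι (q x)).isEmbedding.injective (by rw [hz, q.fiberι_asFiber])
  subst h1
  have h1 := K616.DimInv.fibreDimAt_eq_add q x
  rw [(K582.FibRelDim.hasRelDim_iff q d).1 hd x] at h1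
  rw [h1]
  exact le_add_of_nonneg_right (by exact_mod_cast zero_le)

end Fibre

section Dvr

variable {R : Type u} [CommRing R] [IsDomain R] [IsDiscreteValuationRing R] {X : Scheme.{u}}

/-- The maximal ideal of the local ring at a smooth point of the special fibre is generated by `ϖ` and one
element. -/
theorem exists_generator {ϖ : R} (hϖ : Irreducible ϖ) (q : X ⟶ Spec (CommRingCat.of R))
    [LocallyOfFinitePresentation q] (hd : Cyc.HasRelDim q 1) (x : X)
    (hx : q x = (closedPoint R : PrimeSpectrum R)) (hs : x ∈ q.smoothLocus) :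
    ∃ s ∈ maximalIdeal (X.presheaf.stalk x),
      maximalIdeal (X.presheaf.stalk x) ≤ Ideal.span {DualGr.stalkHom q x ϖ, s} := by
  obtain ⟨z, hz⟩ := K793.Basic.exists_fiber_point q x hx
  have h1 := isRegular_fib q x hs hx z hz
  have h2 := dim_fib q hd x hx z hz
  obtain ⟨s', hs'⟩ := MarksAlg.exists_maximalIdeal_eq (by exact_mod_cast h2)
  let e := K793.Basic.fibEquiv q x hϖ z hz
  let ψ : X.presheaf.stalk x →+* (q.fiber (closedPoint R)).presheaf.stalk z :=
    e.toRingHom.comp (Ideal.Quotient.mk _)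
  have hψ : Function.Surjective ψ := e.surjective.comp Ideal.Quotient.mk_surjective
  have hψl : IsLocalHom ψ := IsLocalHom.of_surjective ψ hψ
  have hker : ∀ b, ψ b = 0 → b ∈ Ideal.span {DualGr.stalkHom q x ϖ} := by
    intro b hb
    have h3 : Ideal.Quotient.mk (Ideal.span {DualGr.stalkHom q x ϖ}) b = 0 :=
      e.injective (by rw [map_zero]; exact hb)
    exact Ideal.Quotient.eq_zero_iff_mem.1 h3
  have hmem : ∀ b, b ∈ maximalIdeal (X.presheaf.stalk x) ↔ ψ b ∈ Ideal.span {s'} := by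
    intro b
    rw [← hs', mem_maximalIdeal, mem_maximalIdeal, mem_nonunits_iff, mem_nonunits_iff,
      isUnit_map_iff]
  obtain ⟨s, rfl⟩ := hψ s'
  refine ⟨s, (hmem s).2 (Ideal.mem_span_singleton_self _), fun b hb => ?_⟩
  obtain ⟨c', hc'⟩ := Ideal.mem_span_singleton.1 ((hmem b).1 hb)
  obtain ⟨c, rfl⟩ := hψ c'
  have h4 : b - s * c ∈ Ideal.span {DualGr.stalkHom q x ϖ} := by
    apply hker
    rw [map_sub, map_mul, hc', sub_self]
  obtain ⟨r, hr⟩ := Ideal.mem_span_singleton.1 h4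
  rw [Ideal.mem_span_pair]
  exact ⟨r, c, by rw [mul_comm r, ← hr]; ring⟩

omit [IsDomain R] [IsDiscreteValuationRing R] in
theorem fromSpecStalk_comp (q : X ⟶ Spec (CommRingCat.of R)) (x : X) :
    X.fromSpecStalk x ≫ q = Spec.map (CommRingCat.ofHom (DualGr.stalkHom q x)) :=
  K435.StalkPt.fromSpecStalk_comp q x

theorem eq_closedPoint_iff {ϖ : R} (hϖ : Irreducible ϖ) (q : X ⟶ Spec (CommRingCat.of R)) (x : X)
    (P : Spec (X.presheaf.stalk x)) :
    q (X.fromSpecStalk x P) = (closedPoint R : PrimeSpectrum R) ↔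
      DualGr.stalkHom q x ϖ ∈ P.asIdeal := by
  rw [K793.Basic.eq_closedPoint_iff _ hϖ]
  have h1 : q (X.fromSpecStalk x P) = (X.fromSpecStalk x ≫ q) P := rfl
  rw [h1, fromSpecStalk_comp]
  rfl

/-- A morphism of smooth schemes through a marked point of the special fibre meets the marked locus in the generic
fibre, unless a generization in the special fibre is mapped to a marked point. -/
theorem exists_generization {ϖ : R} (hϖ : Irreducible ϖ) [HenselianLocalRing R]
    [IsSepClosed (ResidueField R)] {DX U : Scheme.{u}} (q : X ⟶ Spec (CommRingCat.of R))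
    [LocallyOfFinitePresentation q] (hd : Cyc.HasRelDim q 1) (iX : DX ⟶ X) [IsClosedImmersion iX]
    [Etale (iX ≫ q)] (h : U ⟶ X) [Smooth (h ≫ q)] (ε e : U) (hε : h ε ∉ Set.range iX)
    (hqε : q (h ε) = (closedPoint R : PrimeSpectrum R)) (hεe : ε ⤳ e) (he : h e ∈ Set.range iX)
    (hqe : q (h e) = (closedPoint R : PrimeSpectrum R))
    (hsm : h e ∈ q.smoothLocus) :
    ∃ d : U, d ⤳ e ∧ h d ∈ Set.range iX ∧ q (h d) ≠ (closedPoint R : PrimeSpectrum R) := by
  have hnX : IsLocallyNoetherian X := LocallyOfFiniteType.isLocallyNoetherian q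
  have hlfp : LocallyOfFinitePresentation (h ≫ q) := inferInstance
  have hnU : IsLocallyNoetherian U := LocallyOfFiniteType.isLocallyNoetherian (h ≫ q)
  obtain ⟨x₀, hx₀⟩ := he
  obtain ⟨s, hs, hsc, -⟩ := exists_section (iX ≫ q) x₀ (by
    rw [Scheme.Hom.comp_apply, hx₀, hqe])
  let σX : Spec (CommRingCat.of R) ⟶ X := s ≫ iX
  have hσc : σX (closedPoint R : PrimeSpectrum R) = h e := by
    change iX (s (closedPoint R : PrimeSpectrum R)) = h e
    rw [hsc, hx₀]
  obtain ⟨t, ht⟩ := K223.WESec.exists_fac σX (h e) hσc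
  obtain ⟨τ, rfl⟩ := Spec.map_surjective t
  -- the section on rings
  have hτ : ∀ r, τ.hom (DualGr.stalkHom q (h e) r) = r := by
    have h1 : Spec.map (CommRingCat.ofHom (DualGr.stalkHom q (h e)) ≫ τ) = 𝟙 _ := by
      rw [Spec.map_comp, ← fromSpecStalk_comp, ← Category.assoc, ht, Category.assoc, hs]
    rw [← Spec.map_id] at h1
    have h2 := Spec.map_injective h1
    intro r
    exact congr($h2 r)
  have hτc : (Spec.map τ) (closedPoint R : PrimeSpectrum R) =
      (closedPoint (X.presheaf.stalk (h e)) : PrimeSpectrum _) := by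
    apply (X.fromSpecStalk (h e)).isEmbedding.injective
    rw [← Scheme.Hom.comp_apply, ht, hσc, Scheme.fromSpecStalk_closedPoint]
  have hloc : ∀ b ∈ maximalIdeal (X.presheaf.stalk (h e)), ϖ ∣ τ.hom b := by
    intro b hb
    have h1 : b ∈ ((Spec.map τ) (closedPoint R : PrimeSpectrum R)).asIdeal := by
      rw [hτc]; exact hb
    have h2 : τ.hom b ∈ maximalIdeal R := h1
    rw [hϖ.maximalIdeal_eq] at h2
    exact Ideal.mem_span_singleton.1 h2
  obtain ⟨s₀, hs₀, hgen⟩ := exists_generator hϖ q hd (h e) hqe hsm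
  obtain ⟨t₀, ht₀⟩ := MarksAlg.exists_ker_eq_span (DualGr.stalkHom q (h e)) τ.hom hτ hϖ.ne_zero
    ((eq_closedPoint_iff hϖ q (h e) (closedPoint (X.presheaf.stalk (h e)))).1
      (by rw [Scheme.fromSpecStalk_closedPoint, hqe])) hloc hs₀ hgen
  -- points of `V(t₀)` are marked
  have hV : ∀ P : Spec (X.presheaf.stalk (h e)), t₀ ∈ P.asIdeal →
      X.fromSpecStalk (h e) P ∈ Set.range iX := by
    intro P hP
    have h1 : RingHom.ker τ.hom ≤ P.asIdeal := by
      rw [ht₀, Ideal.span_singleton_le_iff_mem]; exact hP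
    have h2 : Function.Surjective τ.hom := fun r => ⟨_, hτ r⟩
    have h3 : P ∈ Set.range (Spec.map τ) := by
      have := _root_.range_comap_of_surjective _ τ.hom h2
      change P ∈ Set.range (PrimeSpectrum.comap τ.hom)
      rw [this]
      exact h1
    obtain ⟨r, rfl⟩ := h3
    refine ⟨s r, ?_⟩
    rw [← Scheme.Hom.comp_apply, ← Scheme.Hom.comp_apply, ht]
  -- translation to `U`
  have hh : ∀ P : Spec (U.presheaf.stalk e), h (U.fromSpecStalk e P) =
      X.fromSpecStalk (h e) (Spec.map (h.stalkMap e) P) := by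
    intro P
    rw [← Scheme.Hom.comp_apply, ← Scheme.Hom.comp_apply, Scheme.SpecMap_stalkMap_fromSpecStalk]
  have hqe' : (h ≫ q) e = (closedPoint R : PrimeSpectrum R) := hqe
  have hprime := Groth.Agent.K382.NodeOpen.isPrime_of_mem_smoothLocus hϖ (h ≫ q) e hqe'
    (by rw [Scheme.Hom.smoothLocus_eq_top]; trivial)
  have hnzd := K793.Basic.stalkHom_mem_nonZeroDivisors (h ≫ q) e hϖ.ne_zero
  have hunit : ¬ IsUnit ((h.stalkMap e).hom t₀) := by
    intro hu
    have h1 : t₀ ∈ maximalIdeal (X.presheaf.stalk (h e)) := by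
      have h2 : t₀ ∈ RingHom.ker τ.hom := by rw [ht₀]; exact Ideal.mem_span_singleton_self _
      exact IsLocalRing.le_maximalIdeal (RingHom.ker_ne_top τ.hom) h2
    exact (mem_nonunits_iff.1 ((mem_maximalIdeal _).1 h1)) (isUnit_of_map_unit (h.stalkMap e).hom t₀ hu)
  have hnot : (h.stalkMap e).hom t₀ ∉ Ideal.span {DualGr.stalkHom (h ≫ q) e ϖ} := by
    intro hmem
    have h1 : ε ∈ Set.range (U.fromSpecStalk e) := by
      rw [Scheme.range_fromSpecStalk]; exact hεe
    obtain ⟨P, hP⟩ := h1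
    have h2 : DualGr.stalkHom (h ≫ q) e ϖ ∈ P.asIdeal := by
      rw [← eq_closedPoint_iff hϖ (h ≫ q) e P, hP]
      exact hqε
    have h3 : (h.stalkMap e).hom t₀ ∈ P.asIdeal :=
      (Ideal.span_singleton_le_iff_mem _).2 h2 hmem
    apply hε
    rw [← hP, hh]
    exact hV _ h3
  obtain ⟨P, hP, htP, hπP⟩ := MarksAlg.exists_prime_notMem hnzd hprime hunit hnot
  let P' : Spec (U.presheaf.stalk e) := ⟨P, hP⟩
  refine ⟨U.fromSpecStalk e P', ?_, ?_, ?_⟩
  · have : U.fromSpecStalk e P' ∈ Set.range (U.fromSpecStalk e) := ⟨_, rfl⟩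
    rw [Scheme.range_fromSpecStalk] at this
    exact this
  · rw [hh]
    exact hV _ htP
  · intro h1
    exact hπP ((eq_closedPoint_iff hϖ (h ≫ q) e P').1 h1)

end Dvr

/-! ### Isomorphisms on generic fibres -/

section Eta

variable {S C C' : Scheme.{u}} [IsIntegral S]

theorem eq_of_isEtaIso {φ : C ⟶ S} {f : C' ⟶ C} (h : SSMod.IsEtaIso φ f) {x y : C'}
    (hx : φ (f x) = genericPoint S) (hxy : f x = f y) : x = y := by
  have := K971.EtaNbhd.isIso_snd_of_isEtaIso h (f x) hx
  obtain ⟨z, hz⟩ := K971.EtaNbhd.fibre_of_isIso f (f x)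
  rw [(hz x).1 rfl, (hz y).1 hxy.symm]

theorem exists_of_isEtaIso {φ : C ⟶ S} {f : C' ⟶ C} (h : SSMod.IsEtaIso φ f) {x : C}
    (hx : φ x = genericPoint S) : ∃ y : C', f y = x := by
  have := K971.EtaNbhd.isIso_snd_of_isEtaIso h x hx
  obtain ⟨z, hz⟩ := K971.EtaNbhd.fibre_of_isIso f x
  exact ⟨z, (hz z).2 rfl⟩

end Eta

theorem eq_genericPoint {R : Type u} [CommRing R] [IsDomain R] [IsDiscreteValuationRing R]
    {s : Spec (CommRingCat.of R)} (hs : s ≠ (closedPoint R : PrimeSpectrum R)) :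
    s = genericPoint (Spec (CommRingCat.of R)) := by
  rw [genericPoint_eq_bot_of_affine]
  by_contra h
  apply hs
  apply PrimeSpectrum.ext
  have h1 : s.asIdeal ≠ ⊥ := fun h' => h (PrimeSpectrum.ext h')
  exact (IsLocalRing.eq_maximalIdeal (Ring.DimensionLEOne.maximalOfPrime h1 s.isPrime))

theorem genericPoint_ne {R : Type u} [CommRing R] [IsDomain R] [IsDiscreteValuationRing R] :
    genericPoint (Spec (CommRingCat.of R)) ≠ (closedPoint R : PrimeSpectrum R) := by
  rw [genericPoint_eq_bot_of_affine]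
  intro h
  have h1 : (⊥ : Ideal R) = maximalIdeal R := congrArg PrimeSpectrum.asIdeal h
  exact IsDiscreteValuationRing.not_a_field R h1.symm

theorem henselianLocalRing (A : Type u) [CommRing A] [IsLocalRing A]
    [IsAdicComplete (maximalIdeal A) A] : HenselianLocalRing A where
  is_henselian f hf a₀ h₁ h₂ := HenselianRing.is_henselian f hf a₀ h₁ (by
    exact h₂.map (Ideal.Quotient.mk (maximalIdeal A)))

theorem main : K807.Iface.Marks.{u} := by
  intro R _ _ _ _ _ C D X DX Y DY U _ φ i hC iX f fD hX hηX hηDX iY g gD hY hηY hηDY h b hb hsmU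
    ε e₁ e₂ hε hqε hε₁ hε₂ hbe he₁ he₂
  have hhens : HenselianLocalRing R := henselianLocalRing R
  obtain ⟨ϖ, hϖ⟩ := IsDiscreteValuationRing.exists_irreducible R
  obtain ⟨⟨hsqX, ⟨-, hX1, -, -, hX2, hX3, -, -, -⟩, ⟨hfp, -⟩, -⟩, -, -, hX4, hX5⟩ := hX
  obtain ⟨⟨hsqY, ⟨-, hY1, -, -, hY2, hY3, -, -, -⟩, ⟨hgp, -⟩, -⟩, -, -, hY4, hY5⟩ := hY
  have hsepC : IsSeparated φ := inferInstance
  have hsepX : IsSeparated (iX ≫ f ≫ φ) := inferInstance
  -- specializations stay in the special fibre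
  have hsp : ∀ e, ε ⤳ e → φ (f (h e)) = (closedPoint R : PrimeSpectrum R) := by
    intro e he
    have h1 : φ (f (h ε)) ⤳ φ (f (h e)) := by
      have h2 := he.map (h ≫ f ≫ φ).continuous
      exact h2
    rw [hqε] at h1
    exact h1.mem_closed (IsLocalRing.isClosed_singleton_closedPoint R) rfl
  have hfg : ∀ u, f (h u) = g (b u) := by
    intro u
    rw [← Scheme.Hom.comp_apply, hb, Scheme.Hom.comp_apply]
  have hεX : h ε ∉ Set.range iX := by
    rintro ⟨δ, hδ⟩
    apply hε
    have h1 : IsClosed ({δ} : Set DX) := isClosed_singleton (iX ≫ f ≫ φ) (by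
      rw [Scheme.Hom.comp_apply, hδ]; exact hqε)
    have h2 : IsClosed (iX '' {δ}) := iX.isClosedEmbedding.isClosedMap _ h1
    rwa [Set.image_singleton, hδ] at h2
  -- the key statement
  have key : ∀ e, ε ⤳ e → h e ∈ Set.range iX → ∃ d : U, d ⤳ e ∧ h d ∈ Set.range iX ∧
      b d ∈ Set.range iY ∧ φ (f (h d)) = genericPoint (Spec (CommRingCat.of R)) := by
    intro e he hem
    have hsm : h e ∈ (f ≫ φ).smoothLocus := by
      have h1 := Set.disjoint_left.1 hX5 hem
      exact not_not.1 h1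
    obtain ⟨d, hd1, hd2, hd3⟩ := exists_generization hϖ (f ≫ φ) hX2 iX h ε e hεX hqε he hem
      (hsp e he) hsm
    have hd4 : φ (f (h d)) = genericPoint (Spec (CommRingCat.of R)) := eq_genericPoint hd3
    refine ⟨d, hd1, hd2, ?_, hd4⟩
    obtain ⟨δ, hδ⟩ := hd2
    have h2 : f (h d) = i (fD δ) := by
      rw [← hδ, ← Scheme.Hom.comp_apply, hsqX, Scheme.Hom.comp_apply]
    obtain ⟨δ', hδ'⟩ := exists_of_isEtaIso hηDY (x := fD δ) (by
      rw [Scheme.Hom.comp_apply, ← h2, hd4])
    refine ⟨δ', ?_⟩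
    have h3 : g (iY δ') = g (b d) := by
      rw [← Scheme.Hom.comp_apply, hsqY, Scheme.Hom.comp_apply, hδ', ← h2, hfg]
    refine eq_of_isEtaIso hηY ?_ h3
    rw [h3, ← hfg, hd4]
  obtain ⟨d₁, hd₁, hd₁X, hd₁Y, hd₁g⟩ := key e₁ hε₁ he₁
  obtain ⟨d₂, hd₂, hd₂X, hd₂Y, hd₂g⟩ := key e₂ hε₂ he₂
  have hY6 : IsClosed (Set.range iY) := iY.isClosedEmbedding.isClosed_range
  have hbe₁ : b e₁ ∈ Set.range iY := (hd₁.map b.continuous).mem_closed hY6 hd₁Y
  refine ⟨hbe₁, ?_⟩
  obtain ⟨y, hy⟩ := hbe₁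
  obtain ⟨y₁, hy₁⟩ := hd₁Y
  obtain ⟨y₂, hy₂⟩ := hd₂Y
  have hgy : ∀ (z : DY) (u : U), iY z = b u → (iY ≫ g ≫ φ) z = φ (f (h u)) := by
    intro z u hz
    rw [hfg, ← hz]
    rfl
  have h1 : y₁ = y₂ := by
    refine eq_of_specializes (iY ≫ g ≫ φ) (y := y) ?_ ?_ ?_ ?_
    · rw [hgy y e₁ hy, hsp e₁ hε₁]
    · rw [← iY.isEmbedding.specializes_iff, hy₁, hy]
      exact hd₁.map b.continuous
    · rw [← iY.isEmbedding.specializes_iff, hy₂, hy, hbe]
      exact hd₂.map b.continuous
    · rw [hgy y₁ d₁ hy₁, hgy y₂ d₂ hy₂, hd₁g, hd₂g]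
  have h2 : h d₁ = h d₂ := by
    refine eq_of_isEtaIso hηX hd₁g ?_
    rw [hfg, hfg, ← hy₁, ← hy₂, h1]
  obtain ⟨x₁, hx₁⟩ := he₁
  obtain ⟨x₂, hx₂⟩ := he₂
  obtain ⟨δ, hδ⟩ := hd₁X
  have hfx : ∀ (z : DX) (u : U), iX z = h u → (iX ≫ f ≫ φ) z = φ (f (h u)) := by
    intro z u hz
    rw [← hz]
    rfl
  have h3 : x₁ = x₂ := by
    refine eq_of_specializes' (iX ≫ f ≫ φ) (z := δ) ?_ ?_ ?_ ?_
    · rw [hfx x₁ e₁ hx₁, hsp e₁ hε₁]
    · rw [hfx x₂ e₂ hx₂, hsp e₂ hε₂]
    · rw [← iX.isEmbedding.specializes_iff, hδ, hx₁]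
      exact hd₁.map h.continuous
    · rw [← iX.isEmbedding.specializes_iff, hδ, hx₂, h2]
      exact hd₂.map h.continuous
  rw [← hx₁, ← hx₂, h3]

end K481.Marks
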